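import Cfsg.Agent.Lib.Helper35.Fi22Ord.X1.Data

set_option Elab.async false

namespace Cfsg.Agent.Lib.Helper35.Fi22Ord.X1

open Cfsg.Agent.Lib.Helper35

theorem q0c0 : allBelow (fun k => fq0 (Nat.add 0 k)) 2085 = true := by decide +kernel
theorem q0u0 : ∀ i, i < 2085 → fq0 i = true := below_step fq0 0 2085 2085 (below_zero fq0) q0c0 rfl
theorem q0c1 : allBelow (fun k => fq0 (Nat.add 2085 k)) 2085 = true := by decide +kernel
theorem q0u1 : ∀ i, i < 4170 → fq0 i = true := below_step fq0 2085 2085 4170 q0u0 q0c1 rfl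
theorem q0c2 : allBelow (fun k => fq0 (Nat.add 4170 k)) 2085 = true := by decide +kernel
theorem q0u2 : ∀ i, i < 6255 → fq0 i = true := below_step fq0 4170 2085 6255 q0u1 q0c2 rfl
theorem q0c3 : allBelow (fun k => fq0 (Nat.add 6255 k)) 2085 = true := by decide +kernel
theorem q0u3 : ∀ i, i < 8340 → fq0 i = true := below_step fq0 6255 2085 8340 q0u2 q0c3 rfl
theorem q0c4 : allBelow (fun k => fq0 (Nat.add 8340 k)) 2085 = true := by decide +kernel
theorem q0u4 : ∀ i, i < 10425 → fq0 i = true := below_step fq0 8340 2085 10425 q0u3 q0c4 rfl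
theorem q0c5 : allBelow (fun k => fq0 (Nat.add 10425 k)) 2085 = true := by decide +kernel
theorem q0u5 : ∀ i, i < 12510 → fq0 i = true := below_step fq0 10425 2085 12510 q0u4 q0c5 rfl
theorem q0c6 : allBelow (fun k => fq0 (Nat.add 12510 k)) 1570 = true := by decide +kernel
theorem q0u6 : ∀ i, i < 14080 → fq0 i = true := below_step fq0 12510 1570 14080 q0u5 q0c6 rfl
theorem m0z : countBelow fm0 0 = 0 := rfl
theorem m0k0 : countBelow (fun k => fm0 (Nat.add 0 k)) 14080 = 14080 := by decide +kernel
theorem m0n0 : countBelow fm0 14080 = 14080 := countBelow_step fm0 0 14080 14080 0 14080 14080 m0z m0k0 rfl rfl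
theorem y0c0 : allBelow (fun k => fy0 (Nat.add 0 k)) 380 = true := by decide +kernel
theorem y0u0 : ∀ i, i < 380 → fy0 i = true := below_step fy0 0 380 380 (below_zero fy0) y0c0 rfl
theorem y0c1 : allBelow (fun k => fy0 (Nat.add 380 k)) 380 = true := by decide +kernel
theorem y0u1 : ∀ i, i < 760 → fy0 i = true := below_step fy0 380 380 760 y0u0 y0c1 rfl
theorem y0c2 : allBelow (fun k => fy0 (Nat.add 760 k)) 380 = true := by decide +kernel
theorem y0u2 : ∀ i, i < 1140 → fy0 i = true := below_step fy0 760 380 1140 y0u1 y0c2 rfl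
theorem y0c3 : allBelow (fun k => fy0 (Nat.add 1140 k)) 380 = true := by decide +kernel
theorem y0u3 : ∀ i, i < 1520 → fy0 i = true := below_step fy0 1140 380 1520 y0u2 y0c3 rfl
theorem y0c4 : allBelow (fun k => fy0 (Nat.add 1520 k)) 380 = true := by decide +kernel
theorem y0u4 : ∀ i, i < 1900 → fy0 i = true := below_step fy0 1520 380 1900 y0u3 y0c4 rfl
theorem y0c5 : allBelow (fun k => fy0 (Nat.add 1900 k)) 380 = true := by decide +kernel
theorem y0u5 : ∀ i, i < 2280 → fy0 i = true := below_step fy0 1900 380 2280 y0u4 y0c5 rfl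
theorem y0c6 : allBelow (fun k => fy0 (Nat.add 2280 k)) 380 = true := by decide +kernel
theorem y0u6 : ∀ i, i < 2660 → fy0 i = true := below_step fy0 2280 380 2660 y0u5 y0c6 rfl
theorem y0c7 : allBelow (fun k => fy0 (Nat.add 2660 k)) 380 = true := by decide +kernel
theorem y0u7 : ∀ i, i < 3040 → fy0 i = true := below_step fy0 2660 380 3040 y0u6 y0c7 rfl
theorem y0c8 : allBelow (fun k => fy0 (Nat.add 3040 k)) 380 = true := by decide +kernel
theorem y0u8 : ∀ i, i < 3420 → fy0 i = true := below_step fy0 3040 380 3420 y0u7 y0c8 rfl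
theorem y0c9 : allBelow (fun k => fy0 (Nat.add 3420 k)) 380 = true := by decide +kernel
theorem y0u9 : ∀ i, i < 3800 → fy0 i = true := below_step fy0 3420 380 3800 y0u8 y0c9 rfl
theorem y0c10 : allBelow (fun k => fy0 (Nat.add 3800 k)) 380 = true := by decide +kernel
theorem y0u10 : ∀ i, i < 4180 → fy0 i = true := below_step fy0 3800 380 4180 y0u9 y0c10 rfl
theorem y0c11 : allBelow (fun k => fy0 (Nat.add 4180 k)) 380 = true := by decide +kernel
theorem y0u11 : ∀ i, i < 4560 → fy0 i = true := below_step fy0 4180 380 4560 y0u10 y0c11 rfl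
theorem y0c12 : allBelow (fun k => fy0 (Nat.add 4560 k)) 380 = true := by decide +kernel
theorem y0u12 : ∀ i, i < 4940 → fy0 i = true := below_step fy0 4560 380 4940 y0u11 y0c12 rfl
theorem y0c13 : allBelow (fun k => fy0 (Nat.add 4940 k)) 380 = true := by decide +kernel
theorem y0u13 : ∀ i, i < 5320 → fy0 i = true := below_step fy0 4940 380 5320 y0u12 y0c13 rfl
theorem y0c14 : allBelow (fun k => fy0 (Nat.add 5320 k)) 380 = true := by decide +kernel
theorem y0u14 : ∀ i, i < 5700 → fy0 i = true := below_step fy0 5320 380 5700 y0u13 y0c14 rfl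
theorem y0c15 : allBelow (fun k => fy0 (Nat.add 5700 k)) 380 = true := by decide +kernel
theorem y0u15 : ∀ i, i < 6080 → fy0 i = true := below_step fy0 5700 380 6080 y0u14 y0c15 rfl
theorem y0c16 : allBelow (fun k => fy0 (Nat.add 6080 k)) 380 = true := by decide +kernel
theorem y0u16 : ∀ i, i < 6460 → fy0 i = true := below_step fy0 6080 380 6460 y0u15 y0c16 rfl
theorem y0c17 : allBelow (fun k => fy0 (Nat.add 6460 k)) 380 = true := by decide +kernel
theorem y0u17 : ∀ i, i < 6840 → fy0 i = true := below_step fy0 6460 380 6840 y0u16 y0c17 rfl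
theorem y0c18 : allBelow (fun k => fy0 (Nat.add 6840 k)) 380 = true := by decide +kernel
theorem y0u18 : ∀ i, i < 7220 → fy0 i = true := below_step fy0 6840 380 7220 y0u17 y0c18 rfl
theorem y0c19 : allBelow (fun k => fy0 (Nat.add 7220 k)) 380 = true := by decide +kernel
theorem y0u19 : ∀ i, i < 7600 → fy0 i = true := below_step fy0 7220 380 7600 y0u18 y0c19 rfl
theorem y0c20 : allBelow (fun k => fy0 (Nat.add 7600 k)) 380 = true := by decide +kernel
theorem y0u20 : ∀ i, i < 7980 → fy0 i = true := below_step fy0 7600 380 7980 y0u19 y0c20 rfl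
theorem y0c21 : allBelow (fun k => fy0 (Nat.add 7980 k)) 380 = true := by decide +kernel
theorem y0u21 : ∀ i, i < 8360 → fy0 i = true := below_step fy0 7980 380 8360 y0u20 y0c21 rfl
theorem y0c22 : allBelow (fun k => fy0 (Nat.add 8360 k)) 380 = true := by decide +kernel
theorem y0u22 : ∀ i, i < 8740 → fy0 i = true := below_step fy0 8360 380 8740 y0u21 y0c22 rfl
theorem y0c23 : allBelow (fun k => fy0 (Nat.add 8740 k)) 380 = true := by decide +kernel
theorem y0u23 : ∀ i, i < 9120 → fy0 i = true := below_step fy0 8740 380 9120 y0u22 y0c23 rfl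
theorem y0c24 : allBelow (fun k => fy0 (Nat.add 9120 k)) 380 = true := by decide +kernel
theorem y0u24 : ∀ i, i < 9500 → fy0 i = true := below_step fy0 9120 380 9500 y0u23 y0c24 rfl
theorem y0c25 : allBelow (fun k => fy0 (Nat.add 9500 k)) 380 = true := by decide +kernel
theorem y0u25 : ∀ i, i < 9880 → fy0 i = true := below_step fy0 9500 380 9880 y0u24 y0c25 rfl
theorem y0c26 : allBelow (fun k => fy0 (Nat.add 9880 k)) 380 = true := by decide +kernel
theorem y0u26 : ∀ i, i < 10260 → fy0 i = true := below_step fy0 9880 380 10260 y0u25 y0c26 rfl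
theorem y0c27 : allBelow (fun k => fy0 (Nat.add 10260 k)) 380 = true := by decide +kernel
theorem y0u27 : ∀ i, i < 10640 → fy0 i = true := below_step fy0 10260 380 10640 y0u26 y0c27 rfl
theorem y0c28 : allBelow (fun k => fy0 (Nat.add 10640 k)) 380 = true := by decide +kernel
theorem y0u28 : ∀ i, i < 11020 → fy0 i = true := below_step fy0 10640 380 11020 y0u27 y0c28 rfl
theorem y0c29 : allBelow (fun k => fy0 (Nat.add 11020 k)) 380 = true := by decide +kernel
theorem y0u29 : ∀ i, i < 11400 → fy0 i = true := below_step fy0 11020 380 11400 y0u28 y0c29 rfl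
theorem y0c30 : allBelow (fun k => fy0 (Nat.add 11400 k)) 380 = true := by decide +kernel
theorem y0u30 : ∀ i, i < 11780 → fy0 i = true := below_step fy0 11400 380 11780 y0u29 y0c30 rfl
theorem y0c31 : allBelow (fun k => fy0 (Nat.add 11780 k)) 380 = true := by decide +kernel
theorem y0u31 : ∀ i, i < 12160 → fy0 i = true := below_step fy0 11780 380 12160 y0u30 y0c31 rfl
theorem y0c32 : allBelow (fun k => fy0 (Nat.add 12160 k)) 380 = true := by decide +kernel
theorem y0u32 : ∀ i, i < 12540 → fy0 i = true := below_step fy0 12160 380 12540 y0u31 y0c32 rfl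
theorem y0c33 : allBelow (fun k => fy0 (Nat.add 12540 k)) 380 = true := by decide +kernel
theorem y0u33 : ∀ i, i < 12920 → fy0 i = true := below_step fy0 12540 380 12920 y0u32 y0c33 rfl
theorem y0c34 : allBelow (fun k => fy0 (Nat.add 12920 k)) 380 = true := by decide +kernel
theorem y0u34 : ∀ i, i < 13300 → fy0 i = true := below_step fy0 12920 380 13300 y0u33 y0c34 rfl
theorem y0c35 : allBelow (fun k => fy0 (Nat.add 13300 k)) 380 = true := by decide +kernel
theorem y0u35 : ∀ i, i < 13680 → fy0 i = true := below_step fy0 13300 380 13680 y0u34 y0c35 rfl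
theorem y0c36 : allBelow (fun k => fy0 (Nat.add 13680 k)) 380 = true := by decide +kernel
theorem y0u36 : ∀ i, i < 14060 → fy0 i = true := below_step fy0 13680 380 14060 y0u35 y0c36 rfl
theorem y0c37 : allBelow (fun k => fy0 (Nat.add 14060 k)) 20 = true := by decide +kernel
theorem y0u37 : ∀ i, i < 14080 → fy0 i = true := below_step fy0 14060 20 14080 y0u36 y0c37 rfl
theorem y1c0 : allBelow (fun k => fy1 (Nat.add 0 k)) 120 = true := by decide +kernel
theorem y1u0 : ∀ i, i < 120 → fy1 i = true := below_step fy1 0 120 120 (below_zero fy1) y1c0 rfl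
theorem y1c1 : allBelow (fun k => fy1 (Nat.add 120 k)) 120 = true := by decide +kernel
theorem y1u1 : ∀ i, i < 240 → fy1 i = true := below_step fy1 120 120 240 y1u0 y1c1 rfl
theorem y1c2 : allBelow (fun k => fy1 (Nat.add 240 k)) 120 = true := by decide +kernel
theorem y1u2 : ∀ i, i < 360 → fy1 i = true := below_step fy1 240 120 360 y1u1 y1c2 rfl
theorem y1c3 : allBelow (fun k => fy1 (Nat.add 360 k)) 120 = true := by decide +kernel
theorem y1u3 : ∀ i, i < 480 → fy1 i = true := below_step fy1 360 120 480 y1u2 y1c3 rfl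
theorem y1c4 : allBelow (fun k => fy1 (Nat.add 480 k)) 120 = true := by decide +kernel
theorem y1u4 : ∀ i, i < 600 → fy1 i = true := below_step fy1 480 120 600 y1u3 y1c4 rfl
theorem y1c5 : allBelow (fun k => fy1 (Nat.add 600 k)) 120 = true := by decide +kernel
theorem y1u5 : ∀ i, i < 720 → fy1 i = true := below_step fy1 600 120 720 y1u4 y1c5 rfl
theorem y1c6 : allBelow (fun k => fy1 (Nat.add 720 k)) 120 = true := by decide +kernel
theorem y1u6 : ∀ i, i < 840 → fy1 i = true := below_step fy1 720 120 840 y1u5 y1c6 rfl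
theorem y1c7 : allBelow (fun k => fy1 (Nat.add 840 k)) 120 = true := by decide +kernel
theorem y1u7 : ∀ i, i < 960 → fy1 i = true := below_step fy1 840 120 960 y1u6 y1c7 rfl
theorem y1c8 : allBelow (fun k => fy1 (Nat.add 960 k)) 120 = true := by decide +kernel
theorem y1u8 : ∀ i, i < 1080 → fy1 i = true := below_step fy1 960 120 1080 y1u7 y1c8 rfl
theorem y1c9 : allBelow (fun k => fy1 (Nat.add 1080 k)) 120 = true := by decide +kernel
theorem y1u9 : ∀ i, i < 1200 → fy1 i = true := below_step fy1 1080 120 1200 y1u8 y1c9 rfl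
theorem y1c10 : allBelow (fun k => fy1 (Nat.add 1200 k)) 120 = true := by decide +kernel
theorem y1u10 : ∀ i, i < 1320 → fy1 i = true := below_step fy1 1200 120 1320 y1u9 y1c10 rfl
theorem y1c11 : allBelow (fun k => fy1 (Nat.add 1320 k)) 120 = true := by decide +kernel
theorem y1u11 : ∀ i, i < 1440 → fy1 i = true := below_step fy1 1320 120 1440 y1u10 y1c11 rfl
theorem y1c12 : allBelow (fun k => fy1 (Nat.add 1440 k)) 120 = true := by decide +kernel
theorem y1u12 : ∀ i, i < 1560 → fy1 i = true := below_step fy1 1440 120 1560 y1u11 y1c12 rfl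
theorem y1c13 : allBelow (fun k => fy1 (Nat.add 1560 k)) 120 = true := by decide +kernel
theorem y1u13 : ∀ i, i < 1680 → fy1 i = true := below_step fy1 1560 120 1680 y1u12 y1c13 rfl
theorem y1c14 : allBelow (fun k => fy1 (Nat.add 1680 k)) 120 = true := by decide +kernel
theorem y1u14 : ∀ i, i < 1800 → fy1 i = true := below_step fy1 1680 120 1800 y1u13 y1c14 rfl
theorem y1c15 : allBelow (fun k => fy1 (Nat.add 1800 k)) 120 = true := by decide +kernel
theorem y1u15 : ∀ i, i < 1920 → fy1 i = true := below_step fy1 1800 120 1920 y1u14 y1c15 rfl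
theorem y1c16 : allBelow (fun k => fy1 (Nat.add 1920 k)) 120 = true := by decide +kernel
theorem y1u16 : ∀ i, i < 2040 → fy1 i = true := below_step fy1 1920 120 2040 y1u15 y1c16 rfl
theorem y1c17 : allBelow (fun k => fy1 (Nat.add 2040 k)) 120 = true := by decide +kernel
theorem y1u17 : ∀ i, i < 2160 → fy1 i = true := below_step fy1 2040 120 2160 y1u16 y1c17 rfl
theorem y1c18 : allBelow (fun k => fy1 (Nat.add 2160 k)) 120 = true := by decide +kernel
theorem y1u18 : ∀ i, i < 2280 → fy1 i = true := below_step fy1 2160 120 2280 y1u17 y1c18 rfl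
theorem y1c19 : allBelow (fun k => fy1 (Nat.add 2280 k)) 120 = true := by decide +kernel
theorem y1u19 : ∀ i, i < 2400 → fy1 i = true := below_step fy1 2280 120 2400 y1u18 y1c19 rfl
theorem y1c20 : allBelow (fun k => fy1 (Nat.add 2400 k)) 120 = true := by decide +kernel
theorem y1u20 : ∀ i, i < 2520 → fy1 i = true := below_step fy1 2400 120 2520 y1u19 y1c20 rfl
theorem y1c21 : allBelow (fun k => fy1 (Nat.add 2520 k)) 120 = true := by decide +kernel
theorem y1u21 : ∀ i, i < 2640 → fy1 i = true := below_step fy1 2520 120 2640 y1u20 y1c21 rfl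
theorem y1c22 : allBelow (fun k => fy1 (Nat.add 2640 k)) 120 = true := by decide +kernel
theorem y1u22 : ∀ i, i < 2760 → fy1 i = true := below_step fy1 2640 120 2760 y1u21 y1c22 rfl
theorem y1c23 : allBelow (fun k => fy1 (Nat.add 2760 k)) 120 = true := by decide +kernel
theorem y1u23 : ∀ i, i < 2880 → fy1 i = true := below_step fy1 2760 120 2880 y1u22 y1c23 rfl
theorem y1c24 : allBelow (fun k => fy1 (Nat.add 2880 k)) 120 = true := by decide +kernel
theorem y1u24 : ∀ i, i < 3000 → fy1 i = true := below_step fy1 2880 120 3000 y1u23 y1c24 rfl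
theorem y1c25 : allBelow (fun k => fy1 (Nat.add 3000 k)) 120 = true := by decide +kernel
theorem y1u25 : ∀ i, i < 3120 → fy1 i = true := below_step fy1 3000 120 3120 y1u24 y1c25 rfl
theorem y1c26 : allBelow (fun k => fy1 (Nat.add 3120 k)) 120 = true := by decide +kernel
theorem y1u26 : ∀ i, i < 3240 → fy1 i = true := below_step fy1 3120 120 3240 y1u25 y1c26 rfl
theorem y1c27 : allBelow (fun k => fy1 (Nat.add 3240 k)) 120 = true := by decide +kernel
theorem y1u27 : ∀ i, i < 3360 → fy1 i = true := below_step fy1 3240 120 3360 y1u26 y1c27 rfl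
theorem y1c28 : allBelow (fun k => fy1 (Nat.add 3360 k)) 120 = true := by decide +kernel
theorem y1u28 : ∀ i, i < 3480 → fy1 i = true := below_step fy1 3360 120 3480 y1u27 y1c28 rfl
theorem y1c29 : allBelow (fun k => fy1 (Nat.add 3480 k)) 120 = true := by decide +kernel
theorem y1u29 : ∀ i, i < 3600 → fy1 i = true := below_step fy1 3480 120 3600 y1u28 y1c29 rfl
theorem y1c30 : allBelow (fun k => fy1 (Nat.add 3600 k)) 120 = true := by decide +kernel
theorem y1u30 : ∀ i, i < 3720 → fy1 i = true := below_step fy1 3600 120 3720 y1u29 y1c30 rfl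
theorem y1c31 : allBelow (fun k => fy1 (Nat.add 3720 k)) 120 = true := by decide +kernel
theorem y1u31 : ∀ i, i < 3840 → fy1 i = true := below_step fy1 3720 120 3840 y1u30 y1c31 rfl
theorem y1c32 : allBelow (fun k => fy1 (Nat.add 3840 k)) 120 = true := by decide +kernel
theorem y1u32 : ∀ i, i < 3960 → fy1 i = true := below_step fy1 3840 120 3960 y1u31 y1c32 rfl
theorem y1c33 : allBelow (fun k => fy1 (Nat.add 3960 k)) 120 = true := by decide +kernel
theorem y1u33 : ∀ i, i < 4080 → fy1 i = true := below_step fy1 3960 120 4080 y1u32 y1c33 rfl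
theorem y1c34 : allBelow (fun k => fy1 (Nat.add 4080 k)) 120 = true := by decide +kernel
theorem y1u34 : ∀ i, i < 4200 → fy1 i = true := below_step fy1 4080 120 4200 y1u33 y1c34 rfl
theorem y1c35 : allBelow (fun k => fy1 (Nat.add 4200 k)) 120 = true := by decide +kernel
theorem y1u35 : ∀ i, i < 4320 → fy1 i = true := below_step fy1 4200 120 4320 y1u34 y1c35 rfl
theorem y1c36 : allBelow (fun k => fy1 (Nat.add 4320 k)) 120 = true := by decide +kernel
theorem y1u36 : ∀ i, i < 4440 → fy1 i = true := below_step fy1 4320 120 4440 y1u35 y1c36 rfl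
theorem y1c37 : allBelow (fun k => fy1 (Nat.add 4440 k)) 120 = true := by decide +kernel
theorem y1u37 : ∀ i, i < 4560 → fy1 i = true := below_step fy1 4440 120 4560 y1u36 y1c37 rfl
theorem y1c38 : allBelow (fun k => fy1 (Nat.add 4560 k)) 120 = true := by decide +kernel
theorem y1u38 : ∀ i, i < 4680 → fy1 i = true := below_step fy1 4560 120 4680 y1u37 y1c38 rfl
theorem y1c39 : allBelow (fun k => fy1 (Nat.add 4680 k)) 120 = true := by decide +kernel
theorem y1u39 : ∀ i, i < 4800 → fy1 i = true := below_step fy1 4680 120 4800 y1u38 y1c39 rfl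
theorem y1c40 : allBelow (fun k => fy1 (Nat.add 4800 k)) 120 = true := by decide +kernel
theorem y1u40 : ∀ i, i < 4920 → fy1 i = true := below_step fy1 4800 120 4920 y1u39 y1c40 rfl
theorem y1c41 : allBelow (fun k => fy1 (Nat.add 4920 k)) 120 = true := by decide +kernel
theorem y1u41 : ∀ i, i < 5040 → fy1 i = true := below_step fy1 4920 120 5040 y1u40 y1c41 rfl
theorem y1c42 : allBelow (fun k => fy1 (Nat.add 5040 k)) 120 = true := by decide +kernel
theorem y1u42 : ∀ i, i < 5160 → fy1 i = true := below_step fy1 5040 120 5160 y1u41 y1c42 rfl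
theorem y1c43 : allBelow (fun k => fy1 (Nat.add 5160 k)) 120 = true := by decide +kernel
theorem y1u43 : ∀ i, i < 5280 → fy1 i = true := below_step fy1 5160 120 5280 y1u42 y1c43 rfl
theorem y1c44 : allBelow (fun k => fy1 (Nat.add 5280 k)) 120 = true := by decide +kernel
theorem y1u44 : ∀ i, i < 5400 → fy1 i = true := below_step fy1 5280 120 5400 y1u43 y1c44 rfl
theorem y1c45 : allBelow (fun k => fy1 (Nat.add 5400 k)) 120 = true := by decide +kernel
theorem y1u45 : ∀ i, i < 5520 → fy1 i = true := below_step fy1 5400 120 5520 y1u44 y1c45 rfl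
theorem y1c46 : allBelow (fun k => fy1 (Nat.add 5520 k)) 120 = true := by decide +kernel
theorem y1u46 : ∀ i, i < 5640 → fy1 i = true := below_step fy1 5520 120 5640 y1u45 y1c46 rfl
theorem y1c47 : allBelow (fun k => fy1 (Nat.add 5640 k)) 120 = true := by decide +kernel
theorem y1u47 : ∀ i, i < 5760 → fy1 i = true := below_step fy1 5640 120 5760 y1u46 y1c47 rfl
theorem y1c48 : allBelow (fun k => fy1 (Nat.add 5760 k)) 120 = true := by decide +kernel
theorem y1u48 : ∀ i, i < 5880 → fy1 i = true := below_step fy1 5760 120 5880 y1u47 y1c48 rfl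
theorem y1c49 : allBelow (fun k => fy1 (Nat.add 5880 k)) 120 = true := by decide +kernel
theorem y1u49 : ∀ i, i < 6000 → fy1 i = true := below_step fy1 5880 120 6000 y1u48 y1c49 rfl
theorem y1c50 : allBelow (fun k => fy1 (Nat.add 6000 k)) 120 = true := by decide +kernel
theorem y1u50 : ∀ i, i < 6120 → fy1 i = true := below_step fy1 6000 120 6120 y1u49 y1c50 rfl
theorem y1c51 : allBelow (fun k => fy1 (Nat.add 6120 k)) 120 = true := by decide +kernel
theorem y1u51 : ∀ i, i < 6240 → fy1 i = true := below_step fy1 6120 120 6240 y1u50 y1c51 rfl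
theorem y1c52 : allBelow (fun k => fy1 (Nat.add 6240 k)) 120 = true := by decide +kernel
theorem y1u52 : ∀ i, i < 6360 → fy1 i = true := below_step fy1 6240 120 6360 y1u51 y1c52 rfl
theorem y1c53 : allBelow (fun k => fy1 (Nat.add 6360 k)) 120 = true := by decide +kernel
theorem y1u53 : ∀ i, i < 6480 → fy1 i = true := below_step fy1 6360 120 6480 y1u52 y1c53 rfl
theorem y1c54 : allBelow (fun k => fy1 (Nat.add 6480 k)) 120 = true := by decide +kernel
theorem y1u54 : ∀ i, i < 6600 → fy1 i = true := below_step fy1 6480 120 6600 y1u53 y1c54 rfl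
theorem y1c55 : allBelow (fun k => fy1 (Nat.add 6600 k)) 120 = true := by decide +kernel
theorem y1u55 : ∀ i, i < 6720 → fy1 i = true := below_step fy1 6600 120 6720 y1u54 y1c55 rfl
theorem y1c56 : allBelow (fun k => fy1 (Nat.add 6720 k)) 120 = true := by decide +kernel
theorem y1u56 : ∀ i, i < 6840 → fy1 i = true := below_step fy1 6720 120 6840 y1u55 y1c56 rfl

end Cfsg.Agent.Lib.Helper35.Fi22Ord.X1
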