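import Cfsg.Agent.Lib.Helper35.Fi22Ord.X1.Chk0

set_option Elab.async false

namespace Cfsg.Agent.Lib.Helper35.Fi22Ord.X1

open Cfsg.Agent.Lib.Helper35

theorem y1c57 : allBelow (fun k => fy1 (Nat.add 6840 k)) 120 = true := by decide +kernel
theorem y1u57 : ∀ i, i < 6960 → fy1 i = true := below_step fy1 6840 120 6960 y1u56 y1c57 rfl
theorem y1c58 : allBelow (fun k => fy1 (Nat.add 6960 k)) 120 = true := by decide +kernel
theorem y1u58 : ∀ i, i < 7080 → fy1 i = true := below_step fy1 6960 120 7080 y1u57 y1c58 rfl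
theorem y1c59 : allBelow (fun k => fy1 (Nat.add 7080 k)) 120 = true := by decide +kernel
theorem y1u59 : ∀ i, i < 7200 → fy1 i = true := below_step fy1 7080 120 7200 y1u58 y1c59 rfl
theorem y1c60 : allBelow (fun k => fy1 (Nat.add 7200 k)) 120 = true := by decide +kernel
theorem y1u60 : ∀ i, i < 7320 → fy1 i = true := below_step fy1 7200 120 7320 y1u59 y1c60 rfl
theorem y1c61 : allBelow (fun k => fy1 (Nat.add 7320 k)) 120 = true := by decide +kernel
theorem y1u61 : ∀ i, i < 7440 → fy1 i = true := below_step fy1 7320 120 7440 y1u60 y1c61 rfl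
theorem y1c62 : allBelow (fun k => fy1 (Nat.add 7440 k)) 120 = true := by decide +kernel
theorem y1u62 : ∀ i, i < 7560 → fy1 i = true := below_step fy1 7440 120 7560 y1u61 y1c62 rfl
theorem y1c63 : allBelow (fun k => fy1 (Nat.add 7560 k)) 120 = true := by decide +kernel
theorem y1u63 : ∀ i, i < 7680 → fy1 i = true := below_step fy1 7560 120 7680 y1u62 y1c63 rfl
theorem y1c64 : allBelow (fun k => fy1 (Nat.add 7680 k)) 120 = true := by decide +kernel
theorem y1u64 : ∀ i, i < 7800 → fy1 i = true := below_step fy1 7680 120 7800 y1u63 y1c64 rfl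
theorem y1c65 : allBelow (fun k => fy1 (Nat.add 7800 k)) 120 = true := by decide +kernel
theorem y1u65 : ∀ i, i < 7920 → fy1 i = true := below_step fy1 7800 120 7920 y1u64 y1c65 rfl
theorem y1c66 : allBelow (fun k => fy1 (Nat.add 7920 k)) 120 = true := by decide +kernel
theorem y1u66 : ∀ i, i < 8040 → fy1 i = true := below_step fy1 7920 120 8040 y1u65 y1c66 rfl
theorem y1c67 : allBelow (fun k => fy1 (Nat.add 8040 k)) 120 = true := by decide +kernel
theorem y1u67 : ∀ i, i < 8160 → fy1 i = true := below_step fy1 8040 120 8160 y1u66 y1c67 rfl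
theorem y1c68 : allBelow (fun k => fy1 (Nat.add 8160 k)) 120 = true := by decide +kernel
theorem y1u68 : ∀ i, i < 8280 → fy1 i = true := below_step fy1 8160 120 8280 y1u67 y1c68 rfl
theorem y1c69 : allBelow (fun k => fy1 (Nat.add 8280 k)) 120 = true := by decide +kernel
theorem y1u69 : ∀ i, i < 8400 → fy1 i = true := below_step fy1 8280 120 8400 y1u68 y1c69 rfl
theorem y1c70 : allBelow (fun k => fy1 (Nat.add 8400 k)) 120 = true := by decide +kernel
theorem y1u70 : ∀ i, i < 8520 → fy1 i = true := below_step fy1 8400 120 8520 y1u69 y1c70 rfl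
theorem y1c71 : allBelow (fun k => fy1 (Nat.add 8520 k)) 120 = true := by decide +kernel
theorem y1u71 : ∀ i, i < 8640 → fy1 i = true := below_step fy1 8520 120 8640 y1u70 y1c71 rfl
theorem y1c72 : allBelow (fun k => fy1 (Nat.add 8640 k)) 120 = true := by decide +kernel
theorem y1u72 : ∀ i, i < 8760 → fy1 i = true := below_step fy1 8640 120 8760 y1u71 y1c72 rfl
theorem y1c73 : allBelow (fun k => fy1 (Nat.add 8760 k)) 120 = true := by decide +kernel
theorem y1u73 : ∀ i, i < 8880 → fy1 i = true := below_step fy1 8760 120 8880 y1u72 y1c73 rfl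
theorem y1c74 : allBelow (fun k => fy1 (Nat.add 8880 k)) 120 = true := by decide +kernel
theorem y1u74 : ∀ i, i < 9000 → fy1 i = true := below_step fy1 8880 120 9000 y1u73 y1c74 rfl
theorem y1c75 : allBelow (fun k => fy1 (Nat.add 9000 k)) 120 = true := by decide +kernel
theorem y1u75 : ∀ i, i < 9120 → fy1 i = true := below_step fy1 9000 120 9120 y1u74 y1c75 rfl
theorem y1c76 : allBelow (fun k => fy1 (Nat.add 9120 k)) 120 = true := by decide +kernel
theorem y1u76 : ∀ i, i < 9240 → fy1 i = true := below_step fy1 9120 120 9240 y1u75 y1c76 rfl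
theorem y1c77 : allBelow (fun k => fy1 (Nat.add 9240 k)) 120 = true := by decide +kernel
theorem y1u77 : ∀ i, i < 9360 → fy1 i = true := below_step fy1 9240 120 9360 y1u76 y1c77 rfl
theorem y1c78 : allBelow (fun k => fy1 (Nat.add 9360 k)) 120 = true := by decide +kernel
theorem y1u78 : ∀ i, i < 9480 → fy1 i = true := below_step fy1 9360 120 9480 y1u77 y1c78 rfl
theorem y1c79 : allBelow (fun k => fy1 (Nat.add 9480 k)) 120 = true := by decide +kernel
theorem y1u79 : ∀ i, i < 9600 → fy1 i = true := below_step fy1 9480 120 9600 y1u78 y1c79 rfl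
theorem y1c80 : allBelow (fun k => fy1 (Nat.add 9600 k)) 120 = true := by decide +kernel
theorem y1u80 : ∀ i, i < 9720 → fy1 i = true := below_step fy1 9600 120 9720 y1u79 y1c80 rfl
theorem y1c81 : allBelow (fun k => fy1 (Nat.add 9720 k)) 120 = true := by decide +kernel
theorem y1u81 : ∀ i, i < 9840 → fy1 i = true := below_step fy1 9720 120 9840 y1u80 y1c81 rfl
theorem y1c82 : allBelow (fun k => fy1 (Nat.add 9840 k)) 120 = true := by decide +kernel
theorem y1u82 : ∀ i, i < 9960 → fy1 i = true := below_step fy1 9840 120 9960 y1u81 y1c82 rfl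
theorem y1c83 : allBelow (fun k => fy1 (Nat.add 9960 k)) 120 = true := by decide +kernel
theorem y1u83 : ∀ i, i < 10080 → fy1 i = true := below_step fy1 9960 120 10080 y1u82 y1c83 rfl
theorem y1c84 : allBelow (fun k => fy1 (Nat.add 10080 k)) 120 = true := by decide +kernel
theorem y1u84 : ∀ i, i < 10200 → fy1 i = true := below_step fy1 10080 120 10200 y1u83 y1c84 rfl
theorem y1c85 : allBelow (fun k => fy1 (Nat.add 10200 k)) 120 = true := by decide +kernel
theorem y1u85 : ∀ i, i < 10320 → fy1 i = true := below_step fy1 10200 120 10320 y1u84 y1c85 rfl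
theorem y1c86 : allBelow (fun k => fy1 (Nat.add 10320 k)) 120 = true := by decide +kernel
theorem y1u86 : ∀ i, i < 10440 → fy1 i = true := below_step fy1 10320 120 10440 y1u85 y1c86 rfl
theorem y1c87 : allBelow (fun k => fy1 (Nat.add 10440 k)) 120 = true := by decide +kernel
theorem y1u87 : ∀ i, i < 10560 → fy1 i = true := below_step fy1 10440 120 10560 y1u86 y1c87 rfl
theorem y1c88 : allBelow (fun k => fy1 (Nat.add 10560 k)) 120 = true := by decide +kernel
theorem y1u88 : ∀ i, i < 10680 → fy1 i = true := below_step fy1 10560 120 10680 y1u87 y1c88 rfl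
theorem y1c89 : allBelow (fun k => fy1 (Nat.add 10680 k)) 120 = true := by decide +kernel
theorem y1u89 : ∀ i, i < 10800 → fy1 i = true := below_step fy1 10680 120 10800 y1u88 y1c89 rfl
theorem y1c90 : allBelow (fun k => fy1 (Nat.add 10800 k)) 120 = true := by decide +kernel
theorem y1u90 : ∀ i, i < 10920 → fy1 i = true := below_step fy1 10800 120 10920 y1u89 y1c90 rfl
theorem y1c91 : allBelow (fun k => fy1 (Nat.add 10920 k)) 120 = true := by decide +kernel
theorem y1u91 : ∀ i, i < 11040 → fy1 i = true := below_step fy1 10920 120 11040 y1u90 y1c91 rfl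
theorem y1c92 : allBelow (fun k => fy1 (Nat.add 11040 k)) 120 = true := by decide +kernel
theorem y1u92 : ∀ i, i < 11160 → fy1 i = true := below_step fy1 11040 120 11160 y1u91 y1c92 rfl
theorem y1c93 : allBelow (fun k => fy1 (Nat.add 11160 k)) 120 = true := by decide +kernel
theorem y1u93 : ∀ i, i < 11280 → fy1 i = true := below_step fy1 11160 120 11280 y1u92 y1c93 rfl
theorem y1c94 : allBelow (fun k => fy1 (Nat.add 11280 k)) 120 = true := by decide +kernel
theorem y1u94 : ∀ i, i < 11400 → fy1 i = true := below_step fy1 11280 120 11400 y1u93 y1c94 rfl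
theorem y1c95 : allBelow (fun k => fy1 (Nat.add 11400 k)) 120 = true := by decide +kernel
theorem y1u95 : ∀ i, i < 11520 → fy1 i = true := below_step fy1 11400 120 11520 y1u94 y1c95 rfl
theorem y1c96 : allBelow (fun k => fy1 (Nat.add 11520 k)) 120 = true := by decide +kernel
theorem y1u96 : ∀ i, i < 11640 → fy1 i = true := below_step fy1 11520 120 11640 y1u95 y1c96 rfl
theorem y1c97 : allBelow (fun k => fy1 (Nat.add 11640 k)) 120 = true := by decide +kernel
theorem y1u97 : ∀ i, i < 11760 → fy1 i = true := below_step fy1 11640 120 11760 y1u96 y1c97 rfl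
theorem y1c98 : allBelow (fun k => fy1 (Nat.add 11760 k)) 120 = true := by decide +kernel
theorem y1u98 : ∀ i, i < 11880 → fy1 i = true := below_step fy1 11760 120 11880 y1u97 y1c98 rfl
theorem y1c99 : allBelow (fun k => fy1 (Nat.add 11880 k)) 120 = true := by decide +kernel
theorem y1u99 : ∀ i, i < 12000 → fy1 i = true := below_step fy1 11880 120 12000 y1u98 y1c99 rfl
theorem y1c100 : allBelow (fun k => fy1 (Nat.add 12000 k)) 120 = true := by decide +kernel
theorem y1u100 : ∀ i, i < 12120 → fy1 i = true := below_step fy1 12000 120 12120 y1u99 y1c100 rfl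
theorem y1c101 : allBelow (fun k => fy1 (Nat.add 12120 k)) 120 = true := by decide +kernel
theorem y1u101 : ∀ i, i < 12240 → fy1 i = true := below_step fy1 12120 120 12240 y1u100 y1c101 rfl
theorem y1c102 : allBelow (fun k => fy1 (Nat.add 12240 k)) 120 = true := by decide +kernel
theorem y1u102 : ∀ i, i < 12360 → fy1 i = true := below_step fy1 12240 120 12360 y1u101 y1c102 rfl
theorem y1c103 : allBelow (fun k => fy1 (Nat.add 12360 k)) 120 = true := by decide +kernel
theorem y1u103 : ∀ i, i < 12480 → fy1 i = true := below_step fy1 12360 120 12480 y1u102 y1c103 rfl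
theorem y1c104 : allBelow (fun k => fy1 (Nat.add 12480 k)) 120 = true := by decide +kernel
theorem y1u104 : ∀ i, i < 12600 → fy1 i = true := below_step fy1 12480 120 12600 y1u103 y1c104 rfl
theorem y1c105 : allBelow (fun k => fy1 (Nat.add 12600 k)) 120 = true := by decide +kernel
theorem y1u105 : ∀ i, i < 12720 → fy1 i = true := below_step fy1 12600 120 12720 y1u104 y1c105 rfl
theorem y1c106 : allBelow (fun k => fy1 (Nat.add 12720 k)) 120 = true := by decide +kernel
theorem y1u106 : ∀ i, i < 12840 → fy1 i = true := below_step fy1 12720 120 12840 y1u105 y1c106 rfl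
theorem y1c107 : allBelow (fun k => fy1 (Nat.add 12840 k)) 120 = true := by decide +kernel
theorem y1u107 : ∀ i, i < 12960 → fy1 i = true := below_step fy1 12840 120 12960 y1u106 y1c107 rfl
theorem y1c108 : allBelow (fun k => fy1 (Nat.add 12960 k)) 120 = true := by decide +kernel
theorem y1u108 : ∀ i, i < 13080 → fy1 i = true := below_step fy1 12960 120 13080 y1u107 y1c108 rfl
theorem y1c109 : allBelow (fun k => fy1 (Nat.add 13080 k)) 120 = true := by decide +kernel
theorem y1u109 : ∀ i, i < 13200 → fy1 i = true := below_step fy1 13080 120 13200 y1u108 y1c109 rfl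
theorem y1c110 : allBelow (fun k => fy1 (Nat.add 13200 k)) 120 = true := by decide +kernel
theorem y1u110 : ∀ i, i < 13320 → fy1 i = true := below_step fy1 13200 120 13320 y1u109 y1c110 rfl
theorem y1c111 : allBelow (fun k => fy1 (Nat.add 13320 k)) 120 = true := by decide +kernel
theorem y1u111 : ∀ i, i < 13440 → fy1 i = true := below_step fy1 13320 120 13440 y1u110 y1c111 rfl
theorem y1c112 : allBelow (fun k => fy1 (Nat.add 13440 k)) 120 = true := by decide +kernel
theorem y1u112 : ∀ i, i < 13560 → fy1 i = true := below_step fy1 13440 120 13560 y1u111 y1c112 rfl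
theorem y1c113 : allBelow (fun k => fy1 (Nat.add 13560 k)) 120 = true := by decide +kernel
theorem y1u113 : ∀ i, i < 13680 → fy1 i = true := below_step fy1 13560 120 13680 y1u112 y1c113 rfl
theorem y1c114 : allBelow (fun k => fy1 (Nat.add 13680 k)) 120 = true := by decide +kernel
theorem y1u114 : ∀ i, i < 13800 → fy1 i = true := below_step fy1 13680 120 13800 y1u113 y1c114 rfl
theorem y1c115 : allBelow (fun k => fy1 (Nat.add 13800 k)) 120 = true := by decide +kernel
theorem y1u115 : ∀ i, i < 13920 → fy1 i = true := below_step fy1 13800 120 13920 y1u114 y1c115 rfl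
theorem y1c116 : allBelow (fun k => fy1 (Nat.add 13920 k)) 120 = true := by decide +kernel
theorem y1u116 : ∀ i, i < 14040 → fy1 i = true := below_step fy1 13920 120 14040 y1u115 y1c116 rfl
theorem y1c117 : allBelow (fun k => fy1 (Nat.add 14040 k)) 40 = true := by decide +kernel
theorem y1u117 : ∀ i, i < 14080 → fy1 i = true := below_step fy1 14040 40 14080 y1u116 y1c117 rfl
theorem oc0 : allBelow (fun k => fo (Nat.add 0 k)) 825 = true := by decide +kernel
theorem ou0 : ∀ i, i < 825 → fo i = true := below_step fo 0 825 825 (below_zero fo) oc0 rfl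
theorem oc1 : allBelow (fun k => fo (Nat.add 825 k)) 825 = true := by decide +kernel
theorem ou1 : ∀ i, i < 1650 → fo i = true := below_step fo 825 825 1650 ou0 oc1 rfl
theorem oc2 : allBelow (fun k => fo (Nat.add 1650 k)) 825 = true := by decide +kernel
theorem ou2 : ∀ i, i < 2475 → fo i = true := below_step fo 1650 825 2475 ou1 oc2 rfl
theorem oc3 : allBelow (fun k => fo (Nat.add 2475 k)) 825 = true := by decide +kernel
theorem ou3 : ∀ i, i < 3300 → fo i = true := below_step fo 2475 825 3300 ou2 oc3 rfl
theorem oc4 : allBelow (fun k => fo (Nat.add 3300 k)) 825 = true := by decide +kernel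
theorem ou4 : ∀ i, i < 4125 → fo i = true := below_step fo 3300 825 4125 ou3 oc4 rfl
theorem oc5 : allBelow (fun k => fo (Nat.add 4125 k)) 825 = true := by decide +kernel
theorem ou5 : ∀ i, i < 4950 → fo i = true := below_step fo 4125 825 4950 ou4 oc5 rfl
theorem oc6 : allBelow (fun k => fo (Nat.add 4950 k)) 825 = true := by decide +kernel
theorem ou6 : ∀ i, i < 5775 → fo i = true := below_step fo 4950 825 5775 ou5 oc6 rfl
theorem oc7 : allBelow (fun k => fo (Nat.add 5775 k)) 825 = true := by decide +kernel
theorem ou7 : ∀ i, i < 6600 → fo i = true := below_step fo 5775 825 6600 ou6 oc7 rfl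
theorem oc8 : allBelow (fun k => fo (Nat.add 6600 k)) 825 = true := by decide +kernel
theorem ou8 : ∀ i, i < 7425 → fo i = true := below_step fo 6600 825 7425 ou7 oc8 rfl
theorem oc9 : allBelow (fun k => fo (Nat.add 7425 k)) 825 = true := by decide +kernel
theorem ou9 : ∀ i, i < 8250 → fo i = true := below_step fo 7425 825 8250 ou8 oc9 rfl
theorem oc10 : allBelow (fun k => fo (Nat.add 8250 k)) 825 = true := by decide +kernel
theorem ou10 : ∀ i, i < 9075 → fo i = true := below_step fo 8250 825 9075 ou9 oc10 rfl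
theorem oc11 : allBelow (fun k => fo (Nat.add 9075 k)) 825 = true := by decide +kernel
theorem ou11 : ∀ i, i < 9900 → fo i = true := below_step fo 9075 825 9900 ou10 oc11 rfl
theorem oc12 : allBelow (fun k => fo (Nat.add 9900 k)) 825 = true := by decide +kernel
theorem ou12 : ∀ i, i < 10725 → fo i = true := below_step fo 9900 825 10725 ou11 oc12 rfl
theorem oc13 : allBelow (fun k => fo (Nat.add 10725 k)) 825 = true := by decide +kernel
theorem ou13 : ∀ i, i < 11550 → fo i = true := below_step fo 10725 825 11550 ou12 oc13 rfl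
theorem oc14 : allBelow (fun k => fo (Nat.add 11550 k)) 825 = true := by decide +kernel
theorem ou14 : ∀ i, i < 12375 → fo i = true := below_step fo 11550 825 12375 ou13 oc14 rfl
theorem oc15 : allBelow (fun k => fo (Nat.add 12375 k)) 825 = true := by decide +kernel
theorem ou15 : ∀ i, i < 13200 → fo i = true := below_step fo 12375 825 13200 ou14 oc15 rfl
theorem oc16 : allBelow (fun k => fo (Nat.add 13200 k)) 825 = true := by decide +kernel
theorem ou16 : ∀ i, i < 14025 → fo i = true := below_step fo 13200 825 14025 ou15 oc16 rfl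
theorem oc17 : allBelow (fun k => fo (Nat.add 14025 k)) 55 = true := by decide +kernel
theorem ou17 : ∀ i, i < 14080 → fo i = true := below_step fo 14025 55 14080 ou16 oc17 rfl
theorem l0z : countBelow fl0 0 = 0 := rfl
theorem l0k0 : countBelow (fun k => fl0 (Nat.add 0 k)) 14080 = 1 := by decide +kernel
theorem l0n0 : countBelow fl0 14080 = 1 := countBelow_step fl0 0 14080 14080 0 1 1 l0z l0k0 rfl rfl
theorem l1z : countBelow fl1 0 = 0 := rfl
theorem l1k0 : countBelow (fun k => fl1 (Nat.add 0 k)) 14080 = 3159 := by decide +kernel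
theorem l1n0 : countBelow fl1 14080 = 3159 := countBelow_step fl1 0 14080 14080 0 3159 3159 l1z l1k0 rfl rfl
theorem l2z : countBelow fl2 0 = 0 := rfl
theorem l2k0 : countBelow (fun k => fl2 (Nat.add 0 k)) 14080 = 10920 := by decide +kernel
theorem l2n0 : countBelow fl2 14080 = 10920 := countBelow_step fl2 0 14080 14080 0 10920 10920 l2z l2k0 rfl rfl

end Cfsg.Agent.Lib.Helper35.Fi22Ord.X1
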